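import Mathlib
import Cfsg.Agent.Lib.PLocal.FFOperator
import Cfsg.Agent.Lib.PLocal.ChiefComm
import Cfsg.Agent.Lib.Coprime.Gaschutz

/-!
# The Thompson subgroup in `p`-solvable `Qd(p)`-free groups
-/

namespace Cfsg.Lib.PLocal

open Subgroup Cfsg.Lib.Transfer
open scoped commutatorElement

variable {G : Type*} [Group G] [Finite G] {p : ℕ} [hp : Fact p.Prime]

omit hp in
theorem le_centralizer_of_omegaOne_of_comm {A V : Subgroup G} (hV : IsMulCommutative V)
    (hVp : IsPGroup p V) (hA : A ≤ normalizer (V : Set G)) (hc : (Nat.card A).Coprime p)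
    (h : A ≤ centralizer (omegaOne p V : Set G)) : A ≤ centralizer (V : Set G) := by
  have h1 := Coprime.commutator_le_of_le_normalizer hA
  rw [← commutator_eq_bot_iff_le_centralizer, commutator_comm,
    ← PGroup.omegaOne_eq_bot_iff (hVp.to_le h1), eq_bot_iff,
    ← Coprime.centralizer_inf_commutator_eq_bot hV hA (Core.coprime_card_of_isPGroup hVp hc).symm]
  exact le_inf ((PGroup.omegaOne_mono h1).trans (le_centralizer_iff.mp h)) (PGroup.omegaOne_le _)

/-- In a `p`-solvable `Qd(p)`-free group, `J(G)` centralizes every normal elementary abelian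
subgroup `V` with `O_p(G / C_G(V)) = 1`. -/
theorem thompsonSubgroup_le_centralizer_of_isPSolvable (hs : IsPSolvable p G)
    (hq : ¬ HasSection (qd p) G) {V : Subgroup G} [V.Normal] (hV : IsElementaryAbelian p V)
    (hO : pCore p (G ⧸ centralizer (V : Set G)) = ⊥) :
    thompsonSubgroup p G ≤ centralizer (V : Set G) := by
  have hm := model_hol V
  have hF := hm.ffPair hV hs hO (thompsonSubgroup p G)
  by_contra hn
  obtain ⟨A, hAH, -, hA⟩ := FFPair.exists_transv (hm.transvGen hV hF) fun h0 =>
    hn (((Subgroup.map_eq_bot_iff _).mp h0).trans hm.ker_eq.le)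
  have h1 := hF.hasNatPlane hAH hA
  have h2 := (hF.block_le hAH).trans (map_le_range _ _)
  rw [← map_comap_eq_self h2] at h1
  refine hq (hm.hasNatPlane_comap ?_ h1).hasSection_qd'.of_subgroup
  rw [map_comap_eq_self h2]
  exact hF.plane_le hAH

theorem pCore_quotient_centralizer_omegaOne {Z : Subgroup G} [Z.Normal]
    [(omegaOne p Z).Normal] (hZ : IsMulCommutative Z) (hZp : IsPGroup p Z)
    (h : ∀ a, InCoreMod p ⊤ (centralizer (Z : Set G)) a → a ∈ centralizer (Z : Set G)) :
    centralizer (omegaOne p Z : Set G) = centralizer (Z : Set G) ∧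
      pCore p (G ⧸ centralizer (omegaOne p Z : Set G)) = ⊥ := by
  have h1 : ∀ x ∈ centralizer (omegaOne p Z : Set G), ∃ k, x ^ p ^ k ∈ centralizer (Z : Set G) :=
    fun x hx => by
      obtain ⟨k, hk⟩ := exists_pow_pow_coprime (p := p) x
      exact ⟨k, le_centralizer_of_omegaOne_of_comm hZ hZp le_normalizer_of_normal
        (by rwa [Nat.card_zpowers]) (zpowers_le.mpr (pow_mem hx _)) (mem_zpowers _)⟩
  have h2 := centralizer_le (SetLike.coe_subset_coe.mpr (PGroup.omegaOne_le (p := p) Z))
  refine ⟨le_antisymm (fun x hx => h x ⟨_, hx, le_top, le_normalizer_of_normal, h1⟩) h2,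
    eq_bot_iff.mpr fun x hx => ?_⟩
  obtain ⟨x, rfl⟩ := QuotientGroup.mk_surjective x
  exact (QuotientGroup.eq_one_iff _).mpr
    (h2 (h x ((mk_mem_pCore_iff_top.mp hx).trans fun y hy => h1 y hy.1)))

/-- `J(S)` is normal in a `p`-solvable `Qd(p)`-free group of characteristic `p` whose Sylow
`p`-subgroup `S` has class at most two. -/
theorem thompsonSubgroupOf_normal_of_class_two (hs : IsPSolvable p G)
    (hq : ¬ HasSection (qd p) G) (hc : centralizer (pCore p G : Set G) ≤ pCore p G)
    (S : Sylow p G) (hS : ⁅⁅(S : Subgroup G), (S : Subgroup G)⁆, (S : Subgroup G)⁆ = ⊥) :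
    (thompsonSubgroupOf p (S : Subgroup G)).Normal := by
  have hZ := omegaCenterSup_le_center (e := 0) hc
  have hZp := (Core.pCore_isPGroup p G).to_le (hZ.trans inf_le_left)
  have hZc := (isElementaryAbelian_omegaCenterSup (e := 0) hc).1
  have : (omegaOne p (omegaCenterSup 0 p G)).Normal := Core.normal_of_top_le_normalizer
    (le_normalizer_of_normal.trans (PGroup.normalizer_le_normalizer_omegaOne _))
  obtain ⟨h1, h2⟩ := pCore_quotient_centralizer_omegaOne hZc hZp
    fun a ha => ha.mem_centralizer omegaCenterSup_le_iSup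
  have h3 := thompsonSubgroup_le_centralizer_of_isPSolvable hs hq
    (PGroup.isElementaryAbelian_omegaOne hZc) h2
  rw [h1] at h3
  have h4 : (S : Subgroup G) ≤ sectionKernel (pCore p G) (omegaCenterSup 0 p G) := by
    rw [← commutator_le_iff_le_sectionKernel]
    refine (commutator_mono le_rfl (Core.pCore_le_sylow S)).trans (le_trans ?_ (le_omegaCenterSup S))
    rw [omegaCenter_zero]
    exact le_inf (commutator_le_self _) (commutator_eq_bot_iff_le_centralizer.mp hS)
  have h5 : sectionKernel (pCore p G) (omegaCenterSup 0 p G) ⊓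
      centralizer (omegaCenterSup 0 p G : Set G) ≤ pCore p G :=
    Core.le_pCore inferInstance (Core.isPGroup_subgroup_iff.mpr fun x hx => by
      obtain ⟨k, hk⟩ := exists_pow_pow_coprime (p := p) x
      have h6 := hc (Coprime.le_centralizer_of_commutator_le (A := zpowers (x ^ p ^ k))
        (N := omegaCenterSup 0 p G) (by
          rw [commutator_comm, commutator_le_iff_le_sectionKernel]
          exact zpowers_le.mpr (pow_mem hx.1 _)) (zpowers_le.mpr (pow_mem hx.2 _))
        (Core.coprime_card_of_isPGroup hZp (by rwa [Nat.card_zpowers])).symm (mem_zpowers _))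
      obtain ⟨l, hl⟩ := Core.isPGroup_subgroup_iff.mp (Core.pCore_isPGroup p G) _ h6
      exact ⟨k + l, by rw [pow_add, pow_mul, hl]⟩)
  have h6 : thompsonSubgroupOf p (S : Subgroup G) ≤ pCore p G :=
    (le_inf ((thompsonSubgroupOf_le _).trans h4) ((thompsonSubgroupOf_le_iff.mpr fun A hA =>
      (le_thompsonSubgroupOf (mem_maxIn_top_of_sylow S hA)).trans
        thompsonSubgroupOf_top.le).trans h3)).trans h5
  rw [← thompsonSubgroupOf_eq_of_le h6 (Core.pCore_le_sylow S)]
  infer_instance

end Cfsg.Lib.PLocal
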