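import Mathlib
import Cfsg.Agent.Lib.PLocal.StrongAb
import Cfsg.Agent.Lib.PLocal.StableSL2

/-!
# Fusion in section `p`-stable groups is controlled by a constrained `p`-local subgroup
-/

namespace Cfsg.Lib.PLocal

open Subgroup Cfsg.Lib.Transfer
open scoped commutatorElement

universe u

section

variable {G : Type*} [Group G] {G' : Type*} [Group G'] {p : ℕ} [Finite G] [hp : Fact p.Prime]

/-- Control of strong fusion lifts over a normal `p`-subgroup centralized by all
`p'`-elements. -/
theorem controls_comap {f : G →* G'} (hk : IsPGroup p f.ker)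
    (hc : ∀ g : G, (orderOf g).Coprime p → g ∈ centralizer (f.ker : Set G)) (S : Sylow p G)
    {N : Subgroup G'} (hS : (S : Subgroup G) ≤ N.comap f)
    (h : Controls (f.range ⊓ N) ((S : Subgroup G).map f) f.range) :
    Controls (N.comap f) S ⊤ := by
  intro H hH g _ hHg
  refine alperin_induction S (fun H g => ∃ n ∈ N.comap f, ∀ a ∈ H,
    n * a * n⁻¹ = g * a * g⁻¹) (fun H K g h _ _ h' => h'.imp fun n hn =>
      ⟨hn.1, fun a ha => hn.2 a (h ha)⟩) ?_ ?_ H g hH hHg
  · rintro H g h - - - ⟨n, hn, h1⟩ ⟨m, hm, h2⟩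
    refine ⟨m * n, mul_mem hm hn, fun a ha => ?_⟩
    have := h2 _ (conj_mem_conj.mpr ha)
    rw [← h1 a ha] at this
    calc _ = m * (n * a * n⁻¹) * m⁻¹ := by group
      _ = h * (g * a * g⁻¹) * h⁻¹ := by rw [this, h1 a ha]
      _ = _ := by group
  intro T x hT hfn hx _ IH
  have hkS : f.ker ≤ S := (Core.le_pCore inferInstance hk).trans (Core.pCore_le_sylow S)
  by_cases hkT : f.ker ≤ T
  swap
  · obtain ⟨n, hn, h⟩ := IH (T ⊔ f.ker) x (card_lt_of_lt (left_lt_sup.mpr hkT)) (sup_le hT hkS) (by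
      rw [conj_sup, conj_eq_self_iff.mpr hx, conj_eq_self_of_normal]
      exact sup_le hT hkS)
    exact ⟨n, hn, fun a ha => h a (mem_sup_left ha)⟩
  obtain ⟨_, ⟨⟨m, rfl⟩, hm⟩, h1⟩ := h (T.map f) (map_mono hT) (f x) ⟨x, rfl⟩
    ((conj_eq_self_iff.mpr (le_normalizer_map _ (mem_map_of_mem f hx))).le.trans (map_mono hT))
  have h2 : ∀ v ∈ T, ⁅m⁻¹ * x, v⁆ ∈ f.ker := fun v hv => by
    have := h1 _ (mem_map_of_mem f hv)
    rw [MonoidHom.mem_ker, commutatorElement_def]
    simp only [map_mul, map_inv]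
    calc _ = (f m)⁻¹ * (f x * f v * (f x)⁻¹) * f m * (f v)⁻¹ := by group
      _ = _ := by rw [← this]; group
  have hKN : commStab T f.ker hkT ≤ normalizer (T : Set G) := fun l hl => hl.1
  obtain ⟨s, hs, h3⟩ := exists_conj_eq_of_coprime_centralize (T := T)
    (S := (S : Subgroup G) ⊓ commStab T f.ker hkT) inf_le_right (by
      have := not_dvd_relIndex_of_le_normalizer hfn hKN fun y hy =>
        normalizer_le_normalizer_commStab _ hy (le_normalizer_of_normal (mem_top y))
      rwa [← inf_relIndex_right, inf_assoc, inf_eq_right.mpr hKN] at this)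
    (fun y hy hcy => Coprime.le_centralizer_of_commutator_le (A := zpowers y) (N := f.ker) (by
        rw [commutator_comm]
        exact commutator_le.mpr fun l hl v hv => (zpowers_le.mpr hy hl).2 v hv)
      (zpowers_le.mpr (hc y hcy))
      (Core.coprime_card_of_isPGroup hk (by rwa [Nat.card_zpowers])).symm (mem_zpowers y))
    (x := m⁻¹ * x) ⟨mem_normalizer_of_conj_le (conj_le_iff.mpr fun v hv => by
      simpa [commutatorElement_def] using T.mul_mem (hkT (h2 v hv)) hv), h2⟩
  refine ⟨m * s, mul_mem hm (hS hs.1), fun a ha => ?_⟩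
  calc _ = m * (s * a * s⁻¹) * m⁻¹ := by group
    _ = _ := by rw [h3 a ha]; group

theorem controls_of_normal (S : Sylow p G) (L : Subgroup G) [L.Normal] {M : Subgroup G}
    (h1 : Controls M S L) (h2 : Controls M S (normalizer (((S : Subgroup G) ⊓ L : Subgroup G) : Set G))) :
    Controls M S ⊤ := fun H hH g _ hg =>
  (fus_of_normal S L (ok := (· ∈ M)) (fun T x hT hx h => by
    have h3 : x ⋆ T ≤ S := (conj_eq_self_iff.mpr hx).le.trans hT
    obtain ⟨n, hn, e⟩ := h.elim (h1 T hT x · h3) (h2 T hT x · h3)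
    exact (Fus.single hn fun a ha => e a ha ▸ conj_le_iff.mp h3 a ha).congr
      fun a ha => (e a ha).symm) H g hH hg).exists_mem fun _ h => h

omit hp in
theorem mem_centralizer_of_coprime_of_mem_sup {T S : Subgroup G} [T.Normal] (hT : T ≤ S)
    (hS : IsPGroup p S) {g : G} (hg : g ∈ T ⊔ centralizer (T : Set G) ⊔ S)
    (hc : (orderOf g).Coprime p) : g ∈ centralizer (T : Set G) := by
  rw [sup_comm T, sup_assoc, sup_eq_right.mpr hT] at hg
  obtain ⟨c, hc', s, hs, rfl⟩ := exists_mul_of_mem_sup le_normalizer_of_normal hg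
  obtain ⟨k, hk⟩ := Core.isPGroup_subgroup_iff.mp hS s hs
  refine mem_of_pow_mem_of_coprime (n := p ^ k) ?_ (hc.pow_right k)
  rw [← QuotientGroup.eq_one_iff, QuotientGroup.mk_pow, QuotientGroup.mk_mul,
    (QuotientGroup.eq_one_iff c).mpr hc', one_mul, ← QuotientGroup.mk_pow, hk, QuotientGroup.mk_one]

end

variable {p : ℕ} [hp : Fact p.Prime]

theorem exists_ne_top_controls (hp2 : p ≠ 2) {G : Type u} [Group G] [Finite G]
    (hst : SecStable p G) (S : Sylow p G)
    (h : ¬ (S : Subgroup G) ⊓ centralizer (pCore p G : Set G) ≤ pCore p G) :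
    ∃ M : Subgroup G, M ≠ ⊤ ∧ (S : Subgroup G) ≤ M ∧ Controls M S ⊤ := by
  have hW := subFunctor_centerThompsonOf.{u} (p := p) (Or.inl rfl)
  have hZ := zjLike_centerThompsonOf.{u} hp2 (Or.inl rfl)
  let L := pCore p G ⊔ centralizer (pCore p G : Set G)
  let π := QuotientGroup.mk' (pCore p G)
  have hs : Function.Surjective π := QuotientGroup.mk'_surjective _
  have hD : IsStronglyClosed ((S : Subgroup G) ⊓ L) S :=
    ⟨inf_le_left, fun x hx g hg => ⟨hg, Normal.conj_mem inferInstance x hx.2 g⟩⟩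
  have hD' := isStronglyClosed_map hs hD
  have hDp := S.isPGroup'.to_le hD.1
  have h1 : normalizer (((S : Subgroup G) ⊓ L : Subgroup G) : Set G) ≤
      (normalizer (centerThompsonOf 0 (((S : Subgroup G) ⊓ L).map π) : Set _)).comap π :=
    map_le_iff_le_comap.mp ((le_normalizer_map _).trans (hW.normalizer_le (hDp.map _)))
  have h2 := (le_normalizer_of_isStronglyClosed hD).trans h1
  refine ⟨_, hW.comap_normalizer_ne_top hDp fun h' => h ((inf_le_inf_left _ le_sup_right).trans h'),
    h2, controls_of_normal S L ?_ (controls_of_le h1)⟩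
  have hSH : (S : Subgroup G) ≤ L ⊔ S := le_sup_right
  have hTH : pCore p G ≤ L ⊔ S := le_sup_left.trans le_sup_left
  have h3 := hW.controls_of_subgroup hD' le_rfl (map_mono hSH) (S.mapSurjective hs).isPGroup'
    (sylow_not_dvd_relIndex (S.mapSurjective hs) (map_mono hSH)) fun Q E hE =>
      controls_of_secStable hW hZ ((hst.quotient _).subgroup _) Q hE
  rw [inf_eq_left.mpr hD'.1] at h3
  have hk : (π.comp (L ⊔ S).subtype).ker = (pCore p G).subgroupOf (L ⊔ S) := by
    rw [← MonoidHom.comap_ker, QuotientGroup.ker_mk']; rfl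
  have h4 := controls_comap (f := π.comp (L ⊔ S).subtype)
    (hk ▸ (Core.pCore_isPGroup p G).comap_subtype) (fun g hg => by
      rw [hk, Core.centralizer_subgroupOf_eq hTH]
      exact mem_centralizer_of_coprime_of_mem_sup (Core.pCore_le_sylow S) S.isPGroup' g.2
        ((orderOf_coe g).symm ▸ hg)) (S.subtype hSH) (comap_mono h2) (by
      rwa [MonoidHom.range_comp, range_subtype, Sylow.coe_subtype, ← Subgroup.map_map,
        subgroupOf_map_subtype, inf_eq_left.mpr hSH])
  rw [← comap_comap] at h4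
  exact (Controls.of_subgroupOf h4 hSH).mono inf_le_right le_sup_left

/-- In a section `p`-stable group the normalizer of some self-centralizing normal subgroup of `S`
controls strong fusion in `S`. -/
theorem exists_centric_controls (hp2 : p ≠ 2) {G : Type u} [Group G] [Finite G]
    (hst : SecStable p G) (S : Sylow p G) : ∃ Q ≤ (S : Subgroup G),
      (S : Subgroup G) ≤ normalizer (Q : Set G) ∧ (S : Subgroup G) ⊓ centralizer (Q : Set G) ≤ Q ∧
      Controls (normalizer (Q : Set G)) S ⊤ := by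
  induction hn : Nat.card G using Nat.strong_induction_on generalizing G with
  | _ n ih =>
  by_cases h : (S : Subgroup G) ⊓ centralizer (pCore p G : Set G) ≤ pCore p G
  · exact ⟨_, Core.pCore_le_sylow S, le_normalizer_of_normal, h,
      controls_of_le le_normalizer_of_normal⟩
  obtain ⟨M, hM, hSM, hc⟩ := exists_ne_top_controls hp2 hst S h
  obtain ⟨Q, h1, h2, h3, h4⟩ := ih _ (hn ▸ card_lt_of_ne_top hM) (hst.subgroup M) (S.subtype hSM) rfl
  have h5 : Q.map M.subtype ≤ S := map_le_iff_le_comap.mpr h1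
  have h6 : normalizer (Q : Set M) ≤
      (normalizer ((Q.map M.subtype : Subgroup G) : Set G)).subgroupOf M :=
    map_le_iff_le_comap.mp (le_normalizer_map _)
  refine ⟨Q.map M.subtype, h5, fun x hx => h6 (h2 (x := ⟨x, hSM hx⟩) hx), fun x hx =>
    mem_map_of_mem M.subtype (h3 (x := ⟨x, hSM hx.1⟩) ⟨hx.1, fun y hy =>
      Subtype.ext (hx.2 _ (mem_map_of_mem M.subtype hy))⟩),
    hc.trans ((Controls.of_subgroupOf (h4.mono h6 le_rfl) hSM).mono inf_le_right le_rfl)⟩

end Cfsg.Lib.PLocal
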